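import Groth.Agent.CechInjective.Basic
import Mathlib.Algebra.Homology.HomologySequence
import Mathlib.Algebra.Homology.HomologicalComplexAbelian

/-!
# Čech cochains evaluated at points, and the long exact sequence
-/

set_option autoImplicit false
set_option backward.isDefEq.respectTransparency false
set_option backward.isDefEq.respectTransparency.types false

universe w v u

open CategoryTheory CategoryTheory.Limits Opposite Simplicial

noncomputable section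

namespace Groth.Agent.EtFlasqueLib

open CechInjective

variable {C : Type u} [Category.{v} C] [LocallySmall.{w} C] {U : C} [HasFiniteProducts (Over U)] {ι : Type w}
  (Uf : ι → Over U)

/-- The value of a cochain at a point. -/
def ev {P : Cᵒᵖ ⥤ AddCommGrpCat.{w}} {n : ℕ} (c : Coch Uf P n) {W : C} (p : Pt Uf n W) : P.obj (op W) :=
  P.map p.hom.op ((Pi.π (fun i => P.obj (op (((E Uf).obj (op ⦋n⦌)).obj i).left)) p.1) c)

theorem ev_zero {P : Cᵒᵖ ⥤ AddCommGrpCat.{w}} {n : ℕ} {W : C} (p : Pt Uf n W) :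
    ev Uf (0 : Coch Uf P n) p = 0 := by
  rw [ev, map_zero, map_zero]

theorem ev_d {P : Cᵒᵖ ⥤ AddCommGrpCat.{w}} (n : ℕ) (c : Coch Uf P n) {W : C} (p : Pt Uf (n + 1) W) :
    ev Uf ((EtCech.cechComplex Uf P).d n (n + 1) c : Coch Uf P (n + 1)) p =
      ∑ k : Fin (n + 2), (-1 : ℤ) ^ (k : ℕ) • ev Uf c (ptMap Uf (SimplexCategory.δ k) W p) := by
  have h := ConcreteCategory.congr_hom (NatTrans.congr_app (dfr_ofCoch Uf c) (op W)) (gen Uf (op W) p)
  rw [NatTrans.comp_app, ConcreteCategory.comp_apply, dfr_of, map_sum, ofCoch_gen] at h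
  refine h.symm.trans (Finset.sum_congr rfl fun k _ => ?_)
  rw [map_zsmul, ofCoch_gen]
  rfl

theorem ev_comp {P : Cᵒᵖ ⥤ AddCommGrpCat.{w}} {n : ℕ} (c : Coch Uf P n) {W W' : C} (g : W' ⟶ W)
    (p : Pt Uf n W) : P.map g.op (ev Uf c p) = ev Uf c (Pt.mk' p.1 (g ≫ p.hom)) := by
  refine (map_map_apply P _ _ _).trans ?_
  exact congrArg (fun z => (P.map (Quiver.Hom.op z))
    ((Pi.π (fun i => P.obj (op (((E Uf).obj (op ⦋n⦌)).obj i).left)) p.1) c)) (Pt.hom_mk' _ _).symm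

theorem comp_mk' {n : ℕ} {W W' : C} (g : W' ⟶ W) (p : Pt Uf n W) (a : Fin (n + 1)) :
    (Pt.mk' p.1 (g ≫ p.hom) : Pt Uf n W').comp a = ⟨(p.comp a).1, g ≫ (p.comp a).2⟩ := by
  refine Sigma.ext rfl (heq_of_eq ?_)
  show (Pt.mk' p.1 (g ≫ p.hom) : Pt Uf n W').hom ≫ _ = g ≫ p.hom ≫ _
  rw [show (Pt.mk' p.1 (g ≫ p.hom) : Pt Uf n W').hom = _ from Pt.hom_mk' _ _, Category.assoc]
  rfl

theorem base_mk' {n : ℕ} {W W' : C} (g : W' ⟶ W) (p : Pt Uf n W) :
    (Pt.mk' p.1 (g ≫ p.hom) : Pt Uf n W').base = g ≫ p.base :=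
  (congrArg (· ≫ _) (Pt.hom_mk' _ _)).trans (Category.assoc _ _ _)

/-- The tautological point of a term of the Čech object. -/
abbrev idPt {n : ℕ} (i : ((E Uf).obj (op ⦋n⦌)).I) : Pt Uf n (((E Uf).obj (op ⦋n⦌)).obj i).left :=
  Pt.mk' i (𝟙 _)

theorem ev_idPt {P : Cᵒᵖ ⥤ AddCommGrpCat.{w}} {n : ℕ} (c : Coch Uf P n) (i : ((E Uf).obj (op ⦋n⦌)).I) :
    ev Uf c (idPt Uf i) = (Pi.π (fun i => P.obj (op (((E Uf).obj (op ⦋n⦌)).obj i).left)) i) c := by
  rw [ev, Pt.hom_mk', op_id]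
  exact ConcreteCategory.congr_hom (P.map_id _) _

theorem coch_ext {P : Cᵒᵖ ⥤ AddCommGrpCat.{w}} {n : ℕ} {c c' : Coch Uf P n}
    (h : ∀ {W : C} (p : Pt Uf n W), ev Uf c p = ev Uf c' p) : c = c' :=
  Concrete.limit_ext _ _ _ fun ⟨i⟩ => ((ev_idPt Uf c i).symm.trans (h (idPt Uf i))).trans (ev_idPt Uf c' i)

/-- A cochain with prescribed values. -/
def mkCoch {P : Cᵒᵖ ⥤ AddCommGrpCat.{w}} {n : ℕ}
    (m : ∀ i : ((E Uf).obj (op ⦋n⦌)).I, P.obj (op (((E Uf).obj (op ⦋n⦌)).obj i).left)) : Coch Uf P n :=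
  (Concrete.productEquiv _).symm m

theorem ev_mkCoch {P : Cᵒᵖ ⥤ AddCommGrpCat.{w}} {n : ℕ}
    (m : ∀ i : ((E Uf).obj (op ⦋n⦌)).I, P.obj (op (((E Uf).obj (op ⦋n⦌)).obj i).left)) {W : C} (p : Pt Uf n W) :
    ev Uf (mkCoch Uf m) p = P.map p.hom.op (m p.1) := by
  rw [ev, mkCoch, Concrete.productEquiv_symm_apply_π (fun i => P.obj (op (((E Uf).obj (op ⦋n⦌)).obj i).left))]

theorem exists_cochain_of_cocycle {P : Cᵒᵖ ⥤ AddCommGrpCat.{w}} {n : ℕ} (h : IsZero (EtCech.cechH Uf P (n + 1)))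
    (c : Coch Uf P (n + 1)) (hc : ((EtCech.cechComplex Uf P).d (n + 1) (n + 2) c : Coch Uf P (n + 2)) = 0) :
    ∃ b : Coch Uf P n, ((EtCech.cechComplex Uf P).d n (n + 1) b : Coch Uf P (n + 1)) = c := by
  rw [← HomologicalComplex.exactAt_iff_isZero_homology,
    HomologicalComplex.exactAt_iff' _ n (n + 1) (n + 2) (by simp) (by simp), ShortComplex.ab_exact_iff] at h
  exact h c hc

/-- The component of the map of Čech complexes. -/
theorem map_f_π {P Q : Cᵒᵖ ⥤ AddCommGrpCat.{w}} (φ : P ⟶ Q) (n : ℕ) (c : Coch Uf P n)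
    (i : ((E Uf).obj (op ⦋n⦌)).I) :
    (Pi.π (fun i => Q.obj (op (((E Uf).obj (op ⦋n⦌)).obj i).left)) i)
      (((cechComplexFunctor Uf).map (Functor.whiskerLeft (Over.forget U).op φ)).f n c) =
    φ.app _ ((Pi.π (fun i => P.obj (op (((E Uf).obj (op ⦋n⦌)).obj i).left)) i) c) :=
  ConcreteCategory.congr_hom (Limits.Pi.map_π (fun i => φ.app (op (((E Uf).obj (op ⦋n⦌)).obj i).left)) i) c

theorem isZero_cechH_X₃ {P₁ P₂ P₃ : Cᵒᵖ ⥤ AddCommGrpCat.{w}} (a : P₁ ⟶ P₂) (b : P₂ ⟶ P₃)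
    (w₀ : ∀ (V : C) (x : P₁.obj (op V)), b.app (op V) (a.app (op V) x) = 0)
    (hi : ∀ V : C, Function.Injective (a.app (op V))) (hs : ∀ V : C, Function.Surjective (b.app (op V)))
    (he : ∀ (V : C) (x : P₂.obj (op V)), b.app (op V) x = 0 → ∃ y, a.app (op V) y = x)
    (p : ℕ) (h₂ : IsZero (EtCech.cechH Uf P₂ p)) (h₁ : IsZero (EtCech.cechH Uf P₁ (p + 1))) :
    IsZero (EtCech.cechH Uf P₃ p) := by
  let F := cechComplexFunctor (A := AddCommGrpCat.{w}) Uf
  let S : ShortComplex (CochainComplex AddCommGrpCat.{w} ℕ) :=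
    ShortComplex.mk (F.map (Functor.whiskerLeft (Over.forget U).op a)) (F.map (Functor.whiskerLeft (Over.forget U).op b))
      (HomologicalComplex.Hom.ext (funext fun n => ConcreteCategory.hom_ext _ _ fun (c : Coch Uf P₁ n) =>
        Concrete.limit_ext _ _ _ fun ⟨i⟩ => by
          refine (map_f_π Uf b n _ i).trans ?_
          refine (congrArg (b.app _) (map_f_π Uf a n c i)).trans ((w₀ _ _).trans ?_)
          exact (map_zero (Pi.π (fun i => P₃.obj (op (((E Uf).obj (op ⦋n⦌)).obj i).left)) i).hom).symm))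
  have hS : S.ShortExact := by
    refine HomologicalComplex.shortExact_of_degreewise_shortExact S fun n => ?_
    refine ShortComplex.ShortExact.mk' ?_ ?_ ?_
    · rw [ShortComplex.ab_exact_iff]
      intro (c : Coch Uf P₂ n) hc
      choose y hy using fun i : ((E Uf).obj (op ⦋n⦌)).I => he _
        ((Pi.π (fun i => P₂.obj (op (((E Uf).obj (op ⦋n⦌)).obj i).left)) i) c) (by
          refine (map_f_π Uf b n c i).symm.trans ?_
          exact (congrArg _ hc).trans (map_zero _))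
      refine ⟨mkCoch Uf y, Concrete.limit_ext _ _ _ fun ⟨i⟩ => ?_⟩
      refine (map_f_π Uf a n _ i).trans ?_
      rw [mkCoch, Concrete.productEquiv_symm_apply_π (fun i => P₁.obj (op (((E Uf).obj (op ⦋n⦌)).obj i).left))]
      exact hy i
    · refine (AddCommGrpCat.mono_iff_injective _).2 fun (c : Coch Uf P₁ n) c' h => Concrete.limit_ext _ _ _ fun ⟨i⟩ => hi _ ?_
      exact (map_f_π Uf a n c i).symm.trans ((congrArg _ h).trans (map_f_π Uf a n c' i))
    · refine (AddCommGrpCat.epi_iff_surjective _).2 fun (c : Coch Uf P₃ n) => ?_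
      choose y hy using fun i : ((E Uf).obj (op ⦋n⦌)).I => hs _
        ((Pi.π (fun i => P₃.obj (op (((E Uf).obj (op ⦋n⦌)).obj i).left)) i) c)
      refine ⟨mkCoch Uf y, Concrete.limit_ext _ _ _ fun ⟨i⟩ => ?_⟩
      refine (map_f_π Uf b n _ i).trans ?_
      rw [mkCoch, Concrete.productEquiv_symm_apply_π (fun i => P₂.obj (op (((E Uf).obj (op ⦋n⦌)).obj i).left))]
      exact hy i
  exact (hS.homology_exact₃ p (p + 1) (by simp)).isZero_of_both_zeros (h₂.eq_of_src _ _) (h₁.eq_of_tgt _ _)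

end Groth.Agent.EtFlasqueLib
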