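import Groth.Agent.EtFlasqueLib.Eval
import Mathlib.CategoryTheory.Limits.Preserves.Shapes.Over
import Mathlib.CategoryTheory.Limits.Constructions.Over.Basic

/-!
# Čech complexes of direct images (universe polymorphic)
-/

set_option autoImplicit false
set_option backward.isDefEq.respectTransparency false
set_option backward.isDefEq.respectTransparency.types false

universe w v v' u u'

open CategoryTheory CategoryTheory.Limits Opposite Simplicial AlgebraicTopology

noncomputable section

namespace Groth.Agent.EtFlasqueLib

variable {C : Type u} [Category.{v} C] {D : Type u'} [Category.{v'} D]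
  (F : C ⥤ D) [PreservesLimitsOfShape WalkingCospan F] {U : C}

theorem preservesFiniteProducts_post [HasPullbacks C] [HasFiniteProducts (Over U)] : PreservesFiniteProducts (Over.post F (X := U)) := by
  haveI : PreservesLimitsOfShape (WidePullbackShape WalkingPair) F :=
    inferInstanceAs (PreservesLimitsOfShape WalkingCospan F)
  haveI : PreservesLimitsOfShape (Discrete WalkingPair) (Over.post F (X := U)) := inferInstance
  haveI : PreservesLimit (Functor.empty.{0} (Over U)) (Over.post F (X := U)) := by
    have h : IsTerminal ((Over.post F).obj (Over.mk (𝟙 U))) :=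
      Over.mkIdTerminal.ofIso (Over.isoMk (Iso.refl _) ((Category.id_comp _).trans (F.map_id U)))
    exact preservesLimit_of_preserves_limit_cone Over.mkIdTerminal
      ((isLimitMapConeEmptyConeEquiv _ _).symm h)
  haveI : PreservesLimitsOfShape (Discrete.{0} PEmpty) (Over.post F (X := U)) :=
    preservesLimitsOfShape_pempty_of_preservesTerminal _
  exact PreservesFiniteProducts.of_preserves_binary_and_terminal _

/-- The functor on formal coproducts induced by a functor on slices. -/
def fcPost : FormalCoproduct.{w} (Over U) ⥤ FormalCoproduct.{w} (Over (F.obj U)) where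
  obj X := ⟨X.I, fun i => (Over.post F).obj (X.obj i)⟩
  map g := ⟨g.f, fun i => (Over.post F).map (g.φ i)⟩
  map_id X := by ext <;> simp <;> rfl
  map_comp f g := by ext <;> simp <;> rfl

variable [HasPullbacks C] [HasFiniteProducts (Over U)] [HasFiniteProducts (Over (F.obj U))] {ι : Type w} (Y : ι → Over U)

/-- The image of a family. -/
abbrev postFam : ι → Over (F.obj U) := fun i => (Over.post F).obj (Y i)

/-- The Čech object of the image is the image of the Čech object. -/
def cechPostIso : (FormalCoproduct.mk ι Y).cech ⋙ fcPost F ≅
    (FormalCoproduct.mk ι (postFam F Y)).cech :=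
  haveI := preservesFiniteProducts_post F (U := U)
  NatIso.ofComponents
    (fun n => FormalCoproduct.isoOfComponents (Equiv.refl _) fun a =>
      PreservesProduct.iso (Over.post F) (fun k => Y (a k)))
    (by
      intro m n g
      refine FormalCoproduct.hom_ext rfl fun a => ?_
      refine (Category.comp_id _).trans ?_
      refine Pi.hom_ext _ _ fun k => ?_
      let σ : ToType n.unop → ToType m.unop := g.unop.toOrderHom.toFun
      change ((Over.post F).map (Pi.lift fun x => Pi.π (fun l => Y (a l)) (σ x)) ≫
          piComparison (Over.post F) (fun x => Y (a (σ x)))) ≫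
            Pi.π (fun x => (Over.post F).obj (Y (a (σ x)))) k =
        (piComparison (Over.post F) (fun l => Y (a l)) ≫
          Pi.lift fun x => Pi.π (fun l => (Over.post F).obj (Y (a l))) (σ x)) ≫
            Pi.π (fun x => (Over.post F).obj (Y (a (σ x)))) k
      rw [Category.assoc, Category.assoc, piComparison_comp_π, Pi.lift_π, piComparison_comp_π,
        ← Functor.map_comp, Pi.lift_π])

/-- Čech complexes of direct images. -/
def famCxPostIso (P : Dᵒᵖ ⥤ AddCommGrpCat.{w}) :
    EtCech.cechComplex Y (F.op ⋙ P) ≅ EtCech.cechComplex (postFam F Y) P :=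
  let e : ((FormalCoproduct.mk ι Y).cech ⋙ fcPost F).rightOp ≅
      (FormalCoproduct.mk ι (postFam F Y)).cech.rightOp :=
    NatIso.ofComponents (fun n => ((cechPostIso F Y).symm.app (op n)).op)
      (fun f => Quiver.Hom.unop_inj ((cechPostIso F Y).inv.naturality f.op).symm)
  (alternatingCofaceMapComplex AddCommGrpCat.{w}).mapIso
    (Functor.isoWhiskerRight e ((FormalCoproduct.evalOp.{w} (Over (F.obj U)) AddCommGrpCat.{w}).obj
      ((Over.forget (F.obj U)).op ⋙ P)))

theorem isZero_cechH_post (P : Dᵒᵖ ⥤ AddCommGrpCat.{w}) (p : ℕ) (h : IsZero (EtCech.cechH (postFam F Y) P p)) :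
    IsZero (EtCech.cechH Y (F.op ⋙ P) p) :=
  h.of_iso ((HomologicalComplex.homologyFunctor _ _ p).mapIso (famCxPostIso F Y P))

end Groth.Agent.EtFlasqueLib
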