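import Groth.Agent.EtFlasqueLib.Eval
import Groth.Agent.EtPtsLib.Conditions
import Groth.Agent.EtH1Lib.Torsor

/-!
# Sections of a short exact sequence with Čech flasque first term
-/

set_option autoImplicit false
set_option backward.isDefEq.respectTransparency false
set_option backward.isDefEq.respectTransparency.types false
set_option maxHeartbeats 1000000

universe u

open CategoryTheory CategoryTheory.Limits AlgebraicGeometry Opposite Simplicial

noncomputable section

namespace Groth.Agent.EtFlasqueLib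

open CechInjective EtPtsLib EtH1Lib

variable {X : Scheme.{u}} [∀ U : X.Etale, HasFiniteProducts (Over U)] {S : ShortComplex (EtCoh.Ab X)}
  (hS : S.ShortExact)

include hS in
theorem app_surjective
    (h1 : ∀ (U : X.Etale) (ι : Type (u + 1)) (Uf : ι → Over U),
      (∀ x : ↥(U.left), ∃ (i : ι) (y : ↥((Uf i).left.left)), (Uf i).hom.left.base y = x) →
      ∀ p : ℕ, 0 < p → IsZero (EtCech.cechH Uf S.X₁.obj p))
    (U : X.Etale) : Function.Surjective (S.g.hom.app (op U)) := by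
  intro s
  haveI := hS.epi_g
  haveI : Sheaf.IsLocallySurjective S.g :=
    (Sheaf.isLocallySurjective_iff_epi' AddCommGrpCat.{u + 1} S.g).2 inferInstance
  choose V g hgr using fun x : U.left =>
    exists_mem_of_covering (Presheaf.imageSieve_mem X.smallEtaleTopology S.g.hom (U := op U) s) x
  choose v hvg hv using hgr
  have hg' : ∀ x, ∃ t : EtCoh.sect S.X₂ (V x), S.g.hom.app (op (V x)) t = S.X₃.obj.map (g x).op s := hvg
  choose t ht using hg'
  let Uf : ULift.{u + 1} U.left → Over U := fun x => Over.mk (g x.down)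
  let τ : ∀ {W : X.Etale}, (Σ j, W ⟶ (Uf j).left) → EtCoh.sect S.X₂ W := fun q => S.X₂.obj.map q.2.op (t q.1.down)
  have hτ : ∀ {W : X.Etale} (q : Σ j, W ⟶ (Uf j).left),
      S.g.hom.app (op W) (τ q) = S.X₃.obj.map (q.2 ≫ (Uf q.1).hom).op s := fun {W} q => by
    refine (app_map S.g q.2 _).trans ?_
    refine (congrArg (S.X₃.obj.map q.2.op) (ht q.1.down)).trans ?_
    rw [op_comp, Functor.map_comp_apply]
    rfl
  have hτmap : ∀ {W W' : X.Etale} (z : W' ⟶ W) (q : Σ j, W ⟶ (Uf j).left),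
      S.X₂.obj.map z.op (τ q) = τ ⟨q.1, z ≫ q.2⟩ := fun z q => by
    show _ = S.X₂.obj.map (z ≫ q.2).op _
    rw [op_comp, Functor.map_comp_apply]
  choose m hm using fun i : ((E Uf).obj (op ⦋1⦌)).I => exists_preimage hS _
    (τ ((idPt Uf i).comp 1) - τ ((idPt Uf i).comp 0)) (by
      rw [map_sub, hτ, hτ, Pt.comp_w, Pt.comp_w, sub_self])
  let c : Coch Uf S.X₁.obj 1 := mkCoch Uf m
  have hc : ∀ {W : X.Etale} (p : Pt Uf 1 W),
      S.f.hom.app (op W) (ev Uf c p) = τ (p.comp 1) - τ (p.comp 0) := fun {W} p => by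
    rw [ev_mkCoch, app_map, hm, map_sub, hτmap, hτmap]
    have e : ∀ a, (⟨((idPt Uf p.1).comp a).1, p.hom ≫ ((idPt Uf p.1).comp a).2⟩ : Σ j, W ⟶ (Uf j).left) = p.comp a :=
      fun a => Sigma.ext rfl (heq_of_eq (by
        show p.hom ≫ (idPt Uf p.1).hom ≫ _ = p.hom ≫ _
        rw [show (idPt Uf p.1).hom = _ from Pt.hom_mk' _ _, Category.id_comp]
        rfl))
    rw [e, e]
  have hdc : ((EtCech.cechComplex Uf S.X₁.obj).d 1 2 c : Coch Uf S.X₁.obj 2) = 0 := by
    refine coch_ext Uf fun {W} p => app_injective hS W ?_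
    rw [ev_d Uf 1 c p, ev_zero, map_zero, map_sum, Fin.sum_univ_three]
    simp only [map_zsmul, hc, ptMap_comp, Fin.val_zero, Fin.val_one, Fin.val_two, pow_zero, pow_one, one_smul,
      neg_smul, neg_one_sq, map_neg]
    have e : ∀ (k : Fin 3) (a : Fin 2), (SimplexCategory.δ k).toOrderHom a = k.succAbove a := fun _ _ => rfl
    simp only [e]
    rw [show (0 : Fin 3).succAbove (0 : Fin 2) = 1 from rfl, show (0 : Fin 3).succAbove (1 : Fin 2) = 2 from rfl,
      show (1 : Fin 3).succAbove (0 : Fin 2) = 0 from rfl, show (1 : Fin 3).succAbove (1 : Fin 2) = 2 from rfl,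
      show (2 : Fin 3).succAbove (0 : Fin 2) = 0 from rfl, show (2 : Fin 3).succAbove (1 : Fin 2) = 1 from rfl]
    abel
  obtain ⟨b, hb⟩ := exists_cochain_of_cocycle Uf
    (h1 U _ Uf (fun x => ⟨⟨x⟩, v x, hv x⟩) 1 Nat.one_pos) c hdc
  let q : ∀ j, Pt Uf 0 (Uf j).left := fun j => Pt.lift (Uf j).hom (fun _ => ⟨j, 𝟙 _⟩) (fun _ => Category.id_comp _)
  let t' : ∀ j, EtCoh.sect S.X₂ (Uf j).left := fun j =>
    (show EtCoh.sect S.X₂ (Uf j).left from t j.down) - S.f.hom.app _ (ev Uf b (q j))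
  have hR : Sieve.generate (Presieve.ofArrows (fun j => (Uf j).left) fun j => (Uf j).hom) ∈
      X.smallEtaleTopology U := covering_of_points _ fun x =>
    ⟨_, (Uf ⟨x⟩).hom, v x, Sieve.le_generate _ _ _ (Presieve.ofArrows.mk (ULift.up x)), hv x⟩
  have hs₂ : Presieve.IsSheafFor (S.X₂.obj ⋙ forget AddCommGrpCat.{u + 1})
      (Presieve.ofArrows (fun j => (Uf j).left) fun j => (Uf j).hom) :=
    (Presieve.isSheafFor_iff_generate _).2 ((isSheaf_iff_isSheaf_of_type _ _).1
      ((sheafCompose X.smallEtaleTopology (forget AddCommGrpCat.{u + 1})).obj S.X₂).property _ hR)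
  obtain ⟨r, hr, -⟩ := (Presieve.isSheafFor_arrows_iff _ _).1 hs₂ t' fun j k W ga gb e => by
    let p : Pt Uf 1 W := Pt.lift (ga ≫ (Uf j).hom) ![⟨j, ga⟩, ⟨k, gb⟩]
      (fun a => by fin_cases a <;> first | rfl | exact e.symm)
    have hp : ∀ (l) (gl : W ⟶ (Uf l).left) (a : Fin 2) (_ : p.comp a = ⟨l, gl⟩) (i : Fin 2)
        (_ : (SimplexCategory.δ i).toOrderHom (0 : Fin 1) = a),
        ev Uf b (ptMap Uf (SimplexCategory.δ i) W p) = S.X₁.obj.map gl.op (ev Uf b (q l)) := by
      intro l gl a hla i hi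
      rw [ev_comp]
      refine congrArg (ev Uf b) (Pt.ext ?_ fun z => ?_)
      · refine (ptMap_base Uf _ W p).trans ((Pt.comp_w p a).symm.trans ?_)
        rw [base_mk', Pt.base_lift, hla]
      · refine (ptMap_comp Uf _ W p z).trans (Eq.trans ?_ (comp_mk' Uf gl (q l) z).symm)
        rw [show z = 0 from Fin.fin_one_eq_zero z, hi, hla,
          show (q l).comp 0 = _ from Pt.comp_lift _ _ _ _, Category.comp_id]
    have h := hc p
    rw [← hb, ev_d Uf 0 b p, map_sum, Fin.sum_univ_two, map_zsmul, map_zsmul,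
      hp k gb 1 (Pt.comp_lift _ _ _ _) 0 rfl, hp j ga 0 (Pt.comp_lift _ _ _ _) 1 rfl, Pt.comp_lift,
      Pt.comp_lift] at h
    simp only [Fin.val_zero, Fin.val_one, pow_zero, pow_one, one_smul, neg_smul, app_map] at h
    show S.X₂.obj.map ga.op (t' j) = S.X₂.obj.map gb.op (t' k)
    rw [map_sub, map_sub, eq_comm, sub_eq_sub_iff_sub_eq_sub]
    refine Eq.trans (Eq.symm h) ?_
    abel
  refine ⟨r, ?_⟩
  have hs₃ := ((isSheaf_iff_isSheaf_of_type _ _).1
      ((sheafCompose X.smallEtaleTopology (forget AddCommGrpCat.{u + 1})).obj S.X₃).property).isSeparated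
      _ hR
  refine hs₃.ext fun Y f hf => ?_
  obtain ⟨Z, h, _, ⟨j⟩, rfl⟩ := hf
  show S.X₃.obj.map (h ≫ (Uf j).hom).op _ = S.X₃.obj.map (h ≫ (Uf j).hom).op s
  rw [op_comp, Functor.map_comp_apply, Functor.map_comp_apply]
  refine congrArg (S.X₃.obj.map h.op) ?_
  rw [← app_map]
  refine (congrArg (S.g.hom.app _) (show S.X₂.obj.map (Uf j).hom.op r = t' j from hr j)).trans ?_
  rw [map_sub, show S.g.hom.app _ (S.f.hom.app _ (ev Uf b (q j))) = 0 from
    ConcreteCategory.congr_hom (NatTrans.congr_app (congrArg (fun φ => φ.hom) S.zero) _) _, sub_zero]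
  exact ht j.down

end Groth.Agent.EtFlasqueLib
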